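import Groth.Agent.RepDesc.Hom
import Mathlib.CategoryTheory.Monoidal.Cartesian.Grp

/-!
# Homomorphisms into a commutative group form a group
-/

set_option autoImplicit false
set_option linter.style.haveILetI false
set_option backward.isDefEq.respectTransparency false
set_option backward.isDefEq.respectTransparency.types false

universe u

open CategoryTheory CategoryTheory.Limits MonoidalCategory CartesianMonoidalCategory AlgebraicGeometry Opposite
open scoped MonObj

namespace Groth.Agent.RepDesc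

variable {S : Scheme.{u}} (G G' : Over S) [GrpObj G] [GrpObj G'] [IsCommMonObj G']

/-- The families of homomorphisms parametrised by `T`, as a subgroup. -/
def homFams (T : Over S) : Subgroup (G ⊗ T ⟶ G') where
  carrier := {φ | AutFam.IsHomFamily G G' φ}
  one_mem' := fun P g₁ g₂ t => by rw [MonObj.comp_one, MonObj.comp_one, MonObj.comp_one, _root_.one_mul]
  mul_mem' := fun {φ ψ} hφ hψ P g₁ g₂ t => by
    rw [MonObj.comp_mul, MonObj.comp_mul, MonObj.comp_mul, hφ P g₁ g₂ t, hψ P g₁ g₂ t]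
    exact mul_mul_mul_comm _ _ _ _
  inv_mem' := fun {φ} hφ P g₁ g₂ t => by
    rw [GrpObj.comp_inv, GrpObj.comp_inv, GrpObj.comp_inv, hφ P g₁ g₂ t]
    exact mul_inv _ _

/-- The functor of families of homomorphisms. -/
noncomputable def homFunctor : (Over S)ᵒᵖ ⥤ GrpCat.{u} where
  obj T := GrpCat.of (homFams G G' T.unop)
  map {T T'} a := GrpCat.ofHom
    { toFun := fun φ => ⟨(G ◁ a.unop) ≫ φ.1, isHomFamily_comp φ.2 a.unop⟩
      map_one' := Subtype.ext (MonObj.comp_one _)
      map_mul' := fun φ ψ => Subtype.ext (MonObj.comp_mul _ _ _) }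
  map_id T := GrpCat.hom_ext (MonoidHom.ext fun φ => Subtype.ext (by
    show (G ◁ 𝟙 T.unop) ≫ φ.1 = φ.1
    rw [whiskerLeft_id, Category.id_comp]))
  map_comp {T T' T''} a b := GrpCat.hom_ext (MonoidHom.ext fun φ => Subtype.ext (by
    show (G ◁ (b.unop ≫ a.unop)) ≫ φ.1 = (G ◁ b.unop) ≫ (G ◁ a.unop) ≫ φ.1
    rw [whiskerLeft_comp, Category.assoc]))

variable {G G'}

/-- A scheme representing the homomorphisms into a commutative group is a group. -/
theorem exists_grpObj {A : Over S} {w : G ⊗ A ⟶ G'} (hA : AutFam.RepresentsHom G G' A w) :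
    ∃ (_ : GrpObj A), ∀ (P : Over S) (h : P ⟶ G) (a b : P ⟶ A),
      lift h (a * b) ≫ w = (lift h a ≫ w) * (lift h b ≫ w) := by
  let E : ∀ T : Over S, (T ⟶ A) ≃ homFams G G' T := fun T =>
    Equiv.ofBijective (fun a => ⟨(G ◁ a) ≫ w, isHomFamily_comp hA.1 a⟩)
      ⟨fun a b h => (hA.2 T _ (isHomFamily_comp hA.1 b)).unique (congrArg Subtype.val h) rfl,
        fun φ => ⟨(hA.2 T φ.1 φ.2).choose, Subtype.ext (hA.2 T φ.1 φ.2).choose_spec.1⟩⟩
  let α : (homFunctor G G' ⋙ forget _).RepresentableBy A :=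
    { homEquiv := fun {T} => E T
      homEquiv_comp := fun {T T'} a b => Subtype.ext (by
        show (G ◁ (a ≫ b)) ≫ w = (G ◁ a) ≫ (G ◁ b) ≫ w
        rw [whiskerLeft_comp, Category.assoc]) }
  letI inst : GrpObj A := GrpObj.ofRepresentableBy A (homFunctor G G') α
  have hE : ∀ (T : Over S) (a b : T ⟶ A), (G ◁ (a * b)) ≫ w = ((G ◁ a) ≫ w) * ((G ◁ b) ≫ w) := by
    intro T a b
    have hμ : (G ◁ (MonObj.mul : A ⊗ A ⟶ A)) ≫ w = ((G ◁ fst A A) ≫ w) * ((G ◁ snd A A) ≫ w) :=
      congrArg Subtype.val ((E (A ⊗ A)).apply_symm_apply (E _ (fst A A) * E _ (snd A A)))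
    rw [Hom.mul_def, whiskerLeft_comp, Category.assoc, hμ, MonObj.comp_mul, ← whiskerLeft_comp_assoc,
      ← whiskerLeft_comp_assoc, lift_fst, lift_snd]
  refine ⟨inst, fun P h a b => ?_⟩
  have e : ∀ c : P ⟶ A, lift h c ≫ w = lift h (𝟙 P) ≫ (G ◁ c) ≫ w := fun c => by
    rw [lift_whiskerLeft_assoc, Category.id_comp]
  rw [e, e, e, hE, MonObj.comp_mul]

end Groth.Agent.RepDesc
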