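import Groth.Agent.RepDesc.Hom

/-!
# A representing scheme restricts to the local classifying schemes
-/

set_option autoImplicit false
set_option linter.style.haveILetI false
set_option backward.isDefEq.respectTransparency false
set_option backward.isDefEq.respectTransparency.types false

universe u

open CategoryTheory CategoryTheory.Limits MonoidalCategory CartesianMonoidalCategory AlgebraicGeometry
open scoped MonObj

namespace Groth.Agent.RepDesc

variable {S : Scheme.{u}} {ι₀ : Type u} {X : ι₀ → Scheme.{u}} {f : ∀ i, X i ⟶ S}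
  {G G' : Over S} [GrpObj G] [GrpObj G']

/-- The projection of a restriction. -/
noncomputable def proj (A : Over S) (i : ι₀) : below f ((Over.pullback (f i)).obj A) ⟶ A :=
  Over.homMk (pullback.fst A.hom (f i)) pullback.condition

/-- The base change of the representing scheme is the local classifying scheme. -/
theorem exists_iso {A : Over S} {w : G ⊗ A ⟶ G'} (hA : AutFam.RepresentsHom G G' A w) {i : ι₀} {V : Over (X i)}
    {υ : G ⊗ below f V ⟶ G'} (hV : IsUnivOn f G G' i V υ) :
    ∃ e : (Over.pullback (f i)).obj A ≅ V, ∀ (T : Over S) (a : T ⟶ below f ((Over.pullback (f i)).obj A)),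
      (G ◁ (a ≫ (Over.homMk e.hom.left (by
        show e.hom.left ≫ V.hom ≫ f i = pullback.snd A.hom (f i) ≫ f i
        rw [← Category.assoc, Over.w e.hom]; rfl) :
          below f ((Over.pullback (f i)).obj A) ⟶ below f V))) ≫ υ = (G ◁ (a ≫ proj A i)) ≫ w := by
  let A' : Over (X i) := (Over.pullback (f i)).obj A
  let Q : Over S := below f A'
  obtain ⟨v, ⟨hv1, hv2⟩, hvu⟩ := hV.2 Q (pullback.snd A.hom (f i)) rfl ((G ◁ proj A i) ≫ w) (isHomFamily_comp hA.1 _)
  obtain ⟨a, ha, hau⟩ := hA.2 (below f V) υ hV.1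
  let h : A' ⟶ V := Over.homMk v.left hv1
  let k : V ⟶ A' := Over.homMk (pullback.lift a.left V.hom (Over.w a)) (pullback.lift_snd _ _ _)
  let kS : below f V ⟶ Q := Over.homMk k.left (by
    show k.left ≫ pullback.snd A.hom (f i) ≫ f i = V.hom ≫ f i
    rw [← Category.assoc]
    exact congrArg (· ≫ f i) (pullback.lift_snd _ _ _))
  have hk : kS ≫ proj A i = a := Over.OverMorphism.ext (pullback.lift_fst _ _ _)
  have hkh : kS ≫ v = 𝟙 _ := by
    refine (hV.2 (below f V) V.hom rfl υ hV.1).unique ⟨?_, ?_⟩ ⟨Category.id_comp _, by rw [whiskerLeft_id, Category.id_comp]⟩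
    · rw [Over.comp_left, Category.assoc, hv1]
      exact pullback.lift_snd _ _ _
    · rw [whiskerLeft_comp, Category.assoc, hv2, ← whiskerLeft_comp_assoc, hk, ha]
  have hhk : v ≫ kS = 𝟙 Q := by
    refine Over.OverMorphism.ext (pullback.hom_ext ?_ ?_)
    · have e : v ≫ a = proj A i := (hA.2 Q _ (isHomFamily_comp hA.1 (proj A i))).unique
        (by rw [whiskerLeft_comp, Category.assoc, ha, hv2]) rfl
      rw [Over.comp_left, Category.assoc]
      exact (congrArg (v.left ≫ ·) (pullback.lift_fst _ _ _)).trans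
        ((congrArg CommaMorphism.left e).trans (Category.id_comp _).symm)
    · rw [Over.comp_left, Category.assoc]
      exact (congrArg (v.left ≫ ·) (pullback.lift_snd _ _ _)).trans (hv1.trans (Category.id_comp _).symm)
  refine ⟨⟨h, k, Over.OverMorphism.ext ?_, Over.OverMorphism.ext ?_⟩, fun T b => ?_⟩
  · exact congrArg (fun m : Q ⟶ Q => m.left) hhk
  · exact congrArg (fun m : below f V ⟶ below f V => m.left) hkh
  · refine ((congrArg (· ≫ υ) (whiskerLeft_comp G b _)).trans (Category.assoc _ _ _)).trans
      (Eq.trans ?_ ((congrArg (· ≫ w) (whiskerLeft_comp G b _)).trans (Category.assoc _ _ _)).symm)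
    refine congrArg ((G ◁ b) ≫ ·) (Eq.trans ?_ hv2)
    exact congrArg (fun m => (G ◁ m) ≫ υ) (Over.OverMorphism.ext rfl)

end Groth.Agent.RepDesc
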