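import Groth.Agent.DescLib.IndQAEff
import Groth.Agent.DescLib.Descends
import Groth.Prelude.Def_AutFam

/-!
# A functor of homomorphisms which is representable over an fpqc covering is representable

If over each member of an fpqc covering the homomorphisms between two groups are classified by an ind-quasi-affine
scheme, then the local representing schemes carry a descent datum, which is effective, and the descended scheme
classifies the homomorphisms over the base.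
-/

set_option autoImplicit false
set_option linter.style.haveILetI false
set_option backward.isDefEq.respectTransparency false
set_option backward.isDefEq.respectTransparency.types false

universe u

open CategoryTheory CategoryTheory.Limits MonoidalCategory CartesianMonoidalCategory AlgebraicGeometry Desc
open scoped MonObj

namespace Groth.Agent.RepDesc

open DescLib

section Defs

variable {S : Scheme.{u}} {ι₀ : Type u} {X : ι₀ → Scheme.{u}} (f : ∀ i, X i ⟶ S)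
  (G G' : Over S) [GrpObj G] [GrpObj G']

/-- A scheme over a member of the covering, over the base. -/
noncomputable abbrev below {i : ι₀} (V : Over (X i)) : Over S := Over.mk (V.hom ≫ f i)

/-- `(V, υ)` classifies the homomorphisms over the member `X i`. -/
def IsUnivOn (i : ι₀) (V : Over (X i)) (υ : G ⊗ below f V ⟶ G') : Prop :=
  AutFam.IsHomFamily G G' υ ∧ ∀ (T : Over S) (x : T.left ⟶ X i), x ≫ f i = T.hom →
    ∀ φ : G ⊗ T ⟶ G', AutFam.IsHomFamily G G' φ → ∃! v : T ⟶ below f V, v.left ≫ V.hom = x ∧ (G ◁ v) ≫ υ = φ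

end Defs

variable {S : Scheme.{u}} {ι₀ : Type u} {X : ι₀ → Scheme.{u}} {f : ∀ i, X i ⟶ S}
  {G G' : Over S} [GrpObj G] [GrpObj G']

theorem isHomFamily_comp {T T' : Over S} {φ : G ⊗ T ⟶ G'} (h : AutFam.IsHomFamily G G' φ) (a : T' ⟶ T) :
    AutFam.IsHomFamily G G' ((G ◁ a) ≫ φ) := fun P g₁ g₂ t => by
  rw [lift_whiskerLeft_assoc, lift_whiskerLeft_assoc, lift_whiskerLeft_assoc]
  exact h P g₁ g₂ (t ≫ a)

section Build

variable {V : ∀ i, Over (X i)} {υ : ∀ i, G ⊗ below f (V i) ⟶ G'}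

/-- A point of a member as a morphism over the base. -/
noncomputable def pO {T : Scheme.{u}} {i : ι₀} {x : T ⟶ X i} (v : Lifts (V i) x) (s : T ⟶ S) (hs : x ≫ f i = s) :
    (Over.mk s : Over S) ⟶ below f (V i) :=
  Over.homMk v.1 (by
    show v.1 ≫ (V i).hom ≫ f i = s
    rw [← Category.assoc, v.2, hs])

variable (hV : ∀ i, IsUnivOn f G G' i (V i) (υ i))

/-- The classifying point of a family over a member. -/
noncomputable def pv {T : Over S} {i : ι₀} (x : T.left ⟶ X i) (h : x ≫ f i = T.hom) (φ : G ⊗ T ⟶ G')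
    (hφ : AutFam.IsHomFamily G G' φ) : T ⟶ below f (V i) := ((hV i).2 T x h φ hφ).choose

theorem pv_hom {T : Over S} {i : ι₀} (x : T.left ⟶ X i) (h : x ≫ f i = T.hom) (φ : G ⊗ T ⟶ G')
    (hφ : AutFam.IsHomFamily G G' φ) : (pv hV x h φ hφ).left ≫ (V i).hom = x :=
  ((hV i).2 T x h φ hφ).choose_spec.1.1

theorem pv_fam {T : Over S} {i : ι₀} (x : T.left ⟶ X i) (h : x ≫ f i = T.hom) (φ : G ⊗ T ⟶ G')
    (hφ : AutFam.IsHomFamily G G' φ) : (G ◁ pv hV x h φ hφ) ≫ υ i = φ :=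
  ((hV i).2 T x h φ hφ).choose_spec.1.2

theorem eq_pv {T : Over S} {i : ι₀} (x : T.left ⟶ X i) (h : x ≫ f i = T.hom) (φ : G ⊗ T ⟶ G')
    (hφ : AutFam.IsHomFamily G G' φ) (v : T ⟶ below f (V i)) (h1 : v.left ≫ (V i).hom = x)
    (h2 : (G ◁ v) ≫ υ i = φ) : v = pv hV x h φ hφ :=
  ((hV i).2 T x h φ hφ).choose_spec.2 v ⟨h1, h2⟩

include hV in
/-- Points of members with the same family coincide. -/
theorem hom_ext_member {T : Over S} {i : ι₀} {v w : T ⟶ below f (V i)} (h1 : v.left ≫ (V i).hom = w.left ≫ (V i).hom)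
    (h2 : (G ◁ v) ≫ υ i = (G ◁ w) ≫ υ i) : v = w :=
  ((hV i).2 T (w.left ≫ (V i).hom) (by rw [Category.assoc]; exact Over.w w) _ (isHomFamily_comp (hV i).1 w)).unique
    ⟨h1, h2⟩ ⟨rfl, rfl⟩

/-- The point over `x₁` with the same family as a given one over `x₀`. -/
noncomputable def transport ⦃T : Scheme.{u}⦄ ⦃i j : ι₀⦄ (x₀ : T ⟶ X i) (x₁ : T ⟶ X j) (h : x₀ ≫ f i = x₁ ≫ f j)
    (v : Lifts (V i) x₀) : Lifts (V j) x₁ :=
  ⟨(pv hV (T := Over.mk (x₁ ≫ f j)) x₁ rfl ((G ◁ pO v (x₁ ≫ f j) h) ≫ υ i) (isHomFamily_comp (hV i).1 _)).left,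
    pv_hom hV _ _ _ _⟩

theorem transport_fam {T : Over S} {i j : ι₀} (x₀ : T.left ⟶ X i) (x₁ : T.left ⟶ X j) (h₀ : x₀ ≫ f i = T.hom)
    (h₁ : x₁ ≫ f j = T.hom) (v : Lifts (V i) x₀) :
    (G ◁ (pO (transport hV x₀ x₁ (h₀.trans h₁.symm) v) T.hom h₁ : T ⟶ _)) ≫ υ j =
      (G ◁ (pO v T.hom h₀ : T ⟶ _)) ≫ υ i := by
  let r : T ⟶ (Over.mk (x₁ ≫ f j) : Over S) := Over.homMk (𝟙 T.left) (by simpa using h₁)
  have e := congrArg (fun m => (G ◁ r) ≫ m) (pv_fam hV (T := Over.mk (x₁ ≫ f j)) x₁ rfl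
    ((G ◁ pO v (x₁ ≫ f j) (h₀.trans h₁.symm)) ≫ υ i) (isHomFamily_comp (hV i).1 _))
  simp only [← whiskerLeft_comp_assoc] at e
  refine Eq.trans ?_ (e.trans ?_) <;> congr 2

theorem transport_eq ⦃T : Scheme.{u}⦄ ⦃i j : ι₀⦄ (x₀ : T ⟶ X i) (x₁ : T ⟶ X j) (h : x₀ ≫ f i = x₁ ≫ f j)
    (v : Lifts (V i) x₀) (w : Lifts (V j) x₁)
    (e : (G ◁ pO w (x₁ ≫ f j) rfl) ≫ υ j = (G ◁ pO v (x₁ ≫ f j) h) ≫ υ i) : transport hV x₀ x₁ h v = w :=
  Subtype.ext (congrArg CommaMorphism.left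
    (eq_pv hV (T := Over.mk (x₁ ≫ f j)) x₁ rfl _ (isHomFamily_comp (hV i).1 _) (pO w _ rfl) w.2 e)).symm

theorem transport_transport ⦃T : Scheme.{u}⦄ ⦃i j k : ι₀⦄ (x₀ : T ⟶ X i) (x₁ : T ⟶ X j) (x₂ : T ⟶ X k)
    (h₀₁ : x₀ ≫ f i = x₁ ≫ f j) (h₁₂ : x₁ ≫ f j = x₂ ≫ f k) (v : Lifts (V i) x₀) :
    transport hV x₁ x₂ h₁₂ (transport hV x₀ x₁ h₀₁ v) = transport hV x₀ x₂ (h₀₁.trans h₁₂) v := by
  refine (transport_eq hV x₀ x₂ (h₀₁.trans h₁₂) v _ ?_).symm
  have e1 := transport_fam hV (T := Over.mk (x₂ ≫ f k)) x₁ x₂ h₁₂ rfl (transport hV x₀ x₁ h₀₁ v)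
  exact e1.trans (transport_fam hV (T := Over.mk (x₂ ≫ f k)) x₀ x₁ (h₀₁.trans h₁₂) h₁₂ v)

theorem transport_self ⦃T : Scheme.{u}⦄ ⦃i : ι₀⦄ (x : T ⟶ X i) (v : Lifts (V i) x) :
    transport hV x x rfl v = v := transport_eq hV x x rfl v v rfl

/-- The descent datum of the local classifying schemes. -/
noncomputable def dd : SchDDFam f where
  obj := V
  φ T i j x₀ x₁ h :=
    { toFun := transport hV x₀ x₁ h
      invFun := transport hV x₁ x₀ h.symm
      left_inv := fun v => by rw [transport_transport, transport_self]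
      right_inv := fun v => by rw [transport_transport, transport_self] }
  φ_natural T T' g i j x₀ x₁ h y₀ y₁ hy₀ hy₁ h' v v' hv' := by
    subst hy₀ hy₁
    let gO : (Over.mk ((g ≫ x₁) ≫ f j) : Over S) ⟶ Over.mk (x₁ ≫ f j) :=
      Over.homMk g (Category.assoc _ _ _).symm
    let w : Lifts (V j) (g ≫ x₁) := ⟨g ≫ (transport hV x₀ x₁ h v).1, by
      rw [Category.assoc, (transport hV x₀ x₁ h v).2]⟩
    refine congrArg Subtype.val (transport_eq hV (g ≫ x₀) (g ≫ x₁) h' v' w ?_)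
    have e := congrArg (fun m => (G ◁ gO) ≫ m) (transport_fam hV (T := Over.mk (x₁ ≫ f j)) x₀ x₁ h rfl v)
    simp only [← whiskerLeft_comp_assoc] at e
    refine Eq.trans ?_ (e.trans ?_) <;> congr 2
    exact Over.OverMorphism.ext hv'.symm
  φ_self T i x v := transport_self hV x v
  φ_comp T i j k x₀ x₁ x₂ h₀₁ h₁₂ v := transport_transport hV x₀ x₁ x₂ h₀₁ h₁₂ v

section Family

variable {hV} {U : Over S} (c₀ : Compat (dd hV) U.hom)

/-- The point of a member below a point of the descended scheme. -/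
noncomputable def loc (T : Over S) (u : T ⟶ U) {i : ι₀} (y : T.left ⟶ X i) (h : y ≫ f i = T.hom) :
    T ⟶ below f (V i) :=
  pO (c₀.pt u.left y (h.trans (Over.w u).symm)) T.hom h

theorem loc_comp (T T' : Over S) (r : T' ⟶ T) (u : T ⟶ U) {i : ι₀} (y : T.left ⟶ X i) (h : y ≫ f i = T.hom)
    (y' : T'.left ⟶ X i) (hy : r.left ≫ y = y') (h' : y' ≫ f i = T'.hom) :
    loc c₀ T' (r ≫ u) y' h' = r ≫ loc c₀ T u y h :=
  Over.OverMorphism.ext (c₀.nat r.left u.left y _ _ _ rfl hy _)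

theorem loc_congr (T : Over S) (u : T ⟶ U) {i j : ι₀} (y : T.left ⟶ X i) (h : y ≫ f i = T.hom)
    (y' : T.left ⟶ X j) (h' : y' ≫ f j = T.hom) :
    (G ◁ loc c₀ T u y h) ≫ υ i = (G ◁ loc c₀ T u y' h') ≫ υ j := by
  have hv := c₀.comp u.left y y' (h.trans (Over.w u).symm) (h'.trans (Over.w u).symm)
  show _ = (G ◁ pO _ T.hom h') ≫ υ j
  rw [← hv]
  exact (transport_fam hV y y' h h' _).symm

theorem exists_family (hcov : ∀ {T : Scheme.{u}} (s : T ⟶ S), factorSieve f s ∈ Scheme.fpqcTopology T) :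
    ∃ w : G ⊗ U ⟶ G', ∀ (T : Over S) (g : T ⟶ G) (u : T ⟶ U) {i : ι₀} (y : T.left ⟶ X i) (h : y ≫ f i = T.hom),
      lift g u ≫ w = lift g (loc c₀ T u y h) ≫ υ i := by
  let P := G ⊗ U
  let tO : ∀ {T' : Scheme.{u}} (t : T' ⟶ P.left), (Over.mk (t ≫ P.hom) : Over S) ⟶ P :=
    @fun T' t => Over.homMk t
  let val : ∀ {T' : Scheme.{u}} (t : T' ⟶ P.left) {i : ι₀} (y : T' ⟶ X i) (_ : y ≫ f i = t ≫ P.hom),
      (Over.mk (t ≫ P.hom) : Over S) ⟶ G' := @fun T' t i y h =>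
    lift (tO t ≫ fst G U) (loc c₀ _ (tO t ≫ snd G U) y h) ≫ υ i
  have hval : ∀ {T' : Scheme.{u}} (t : T' ⟶ P.left) {i j : ι₀} (y : T' ⟶ X i) (h : y ≫ f i = t ≫ P.hom)
      (y' : T' ⟶ X j) (h' : y' ≫ f j = t ≫ P.hom), val t y h = val t y' h' := by
    intro T' t i j y h y' h'
    have e := congrArg (fun m => lift (tO t ≫ fst G U) (𝟙 _) ≫ m) (loc_congr c₀ _ (tO t ≫ snd G U) y h y' h')
    simp only [lift_whiskerLeft_assoc, Category.id_comp] at e
    exact e
  obtain ⟨w₀, hw₀⟩ := exists_glue _ (hcov P.hom)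
    (fun T' t ht => (val t ht.choose_spec.choose ht.choose_spec.choose_spec).left) (fun T' T'' g t ht t' ht' e => by
      subst e
      rw [hval (g ≫ t) _ ht'.choose_spec.choose_spec (g ≫ ht.choose_spec.choose)
        (by rw [Category.assoc, ht.choose_spec.choose_spec, Category.assoc])]
      let r : (Over.mk ((g ≫ t) ≫ P.hom) : Over S) ⟶ Over.mk (t ≫ P.hom) :=
        Over.homMk g (Category.assoc _ _ _).symm
      have hr : r ≫ tO t = tO (g ≫ t) := Over.OverMorphism.ext rfl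
      show _ = (r ≫ val t ht.choose_spec.choose ht.choose_spec.choose_spec).left
      congr 1
      simp only [val]
      rw [comp_lift_assoc, ← loc_comp c₀ _ _ r _ _ _ _ rfl (by
        show (g ≫ ht.choose_spec.choose) ≫ f ht.choose = (g ≫ t) ≫ P.hom
        exact (Category.assoc _ _ _).trans ((congrArg (g ≫ ·) ht.choose_spec.choose_spec).trans (Category.assoc _ _ _).symm))]
      simp only [← Category.assoc r, hr]
      rfl)
  have hw : w₀ ≫ G'.hom = P.hom := hom_ext_of_covering _ (hcov P.hom) _ _ fun T' t ht => by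
    rw [← Category.assoc, hw₀ t ht]
    exact Over.w (val t _ _)
  refine ⟨Over.homMk w₀ hw, fun T g u i y h => ?_⟩
  let t : T.left ⟶ P.left := (lift g u : T ⟶ P).left
  have htP : t ≫ P.hom = T.hom := Over.w (lift g u : T ⟶ P)
  have ht : y ≫ f i = t ≫ P.hom := h.trans htP.symm
  let r : T ⟶ (Over.mk (t ≫ P.hom) : Over S) := Over.homMk (𝟙 T.left) (by
    show 𝟙 _ ≫ t ≫ P.hom = T.hom
    rw [Category.id_comp, htP])
  refine Over.OverMorphism.ext ?_
  show t ≫ w₀ = _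
  rw [hw₀ t ⟨i, y, ht⟩, hval t _ _ y ht]
  refine Eq.trans (Category.id_comp _).symm (congrArg (fun m : T ⟶ G' => m.left)
    (show r ≫ val t y ht = lift g (loc c₀ T u y h) ≫ υ i from ?_))
  have hr : r ≫ tO t = lift g u := Over.OverMorphism.ext (Category.id_comp _)
  simp only [val]
  rw [comp_lift_assoc, ← loc_comp c₀ _ _ r _ _ _ _ (Category.id_comp y) h]
  simp only [← Category.assoc r, hr, lift_fst, lift_snd]

end Family

end Build

/-- Representability of homomorphisms descends along an fpqc covering. -/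
theorem exists_representsHom (hf : Presieve.ofArrows X f ∈ Scheme.fpqcPrecoverage S) (V : ∀ i, Over (X i))
    (υ : ∀ i, G ⊗ below f (V i) ⟶ G') (hV : ∀ i, IsUnivOn f G G' i (V i) (υ i))
    (hqa : ∀ i, MoreMor.IsIndQuasiAffineHom (V i).hom) :
    ∃ (A : Over S) (w : G ⊗ A ⟶ G'), AutFam.RepresentsHom G G' A w := by
  have hcov : ∀ {T : Scheme.{u}} (s : T ⟶ S), factorSieve f s ∈ Scheme.fpqcTopology T := fun s =>
    factorSieve_mem_of_cover f hf s
  obtain ⟨U, c₀, hu⟩ := rep_of_isEffective hcov (DescLib.IndQA.isEffective_of_indQA f hf (dd hV) hqa)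
  obtain ⟨w, key⟩ := exists_family c₀ hcov
  have ext_cov : ∀ {Q Z : Over S} (a b : Q ⟶ Z), (∀ (R : Over S) (r : R ⟶ Q) (i : ι₀) (y : R.left ⟶ X i),
      y ≫ f i = R.hom → r ≫ a = r ≫ b) → a = b := fun {Q Z} a b h => by
    refine Over.OverMorphism.ext (hom_ext_of_covering _ (hcov Q.hom) _ _ fun T' t ⟨i, y, hy⟩ => ?_)
    exact congrArg (fun m : (Over.mk (t ≫ Q.hom) : Over S) ⟶ Z => m.left)
      (h (Over.mk (t ≫ Q.hom)) (Over.homMk t) i y hy)
  refine ⟨U, w, fun Q g₁ g₂ u => ext_cov _ _ fun R r i y hy => ?_, fun T φ hφ => ?_⟩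
  · simp only [MonObj.comp_mul, comp_lift_assoc]
    rw [key _ _ _ y hy, key _ _ _ y hy, key _ _ _ y hy]
    exact (hV i).1 _ _ _ _
  let tO : ∀ {T' : Scheme.{u}} (t : T' ⟶ T.left), (Over.mk (t ≫ T.hom) : Over S) ⟶ T := @fun T' t => Over.homMk t
  let ptT : ∀ {T' : Scheme.{u}} (t : T' ⟶ T.left) {i : ι₀} (y : T' ⟶ X i) (_ : y ≫ f i = t ≫ T.hom),
      (Over.mk (t ≫ T.hom) : Over S) ⟶ below f (V i) := @fun T' t i y h =>
    pv hV (T := Over.mk (t ≫ T.hom)) y h ((G ◁ tO t) ≫ φ) (isHomFamily_comp hφ _)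
  let c : Compat (dd hV) T.hom :=
    { pt := fun T' t i y h => ⟨(ptT t y h).left, pv_hom hV _ _ _ _⟩
      nat := fun T' T'' g t i y h t' y' hg hy h' => by
        subst hg hy
        let r : (Over.mk ((g ≫ t) ≫ T.hom) : Over S) ⟶ Over.mk (t ≫ T.hom) :=
          Over.homMk g (Category.assoc _ _ _).symm
        show _ = (r ≫ ptT t y h).left
        refine congrArg (fun m : (Over.mk ((g ≫ t) ≫ T.hom) : Over S) ⟶ below f (V i) => m.left)
          (eq_pv hV _ _ _ _ (r ≫ ptT t y h) ?_ ?_).symm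
        · exact (Category.assoc _ _ _).trans (congrArg (g ≫ ·) (pv_hom hV _ _ _ _))
        · refine ((congrArg (· ≫ υ i) (whiskerLeft_comp G r _)).trans (Category.assoc _ _ _)).trans
            ((congrArg ((G ◁ r) ≫ ·) (pv_fam hV _ _ _ _)).trans ?_)
          exact (whiskerLeft_comp_assoc G r (tO t) φ).symm
      comp := fun T' t i k y y' h h' => by
        let r : (Over.mk (y' ≫ f k) : Over S) ⟶ Over.mk (t ≫ T.hom) := Over.homMk (𝟙 T') (by simpa using h'.symm)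
        refine transport_eq hV y y' _ _ _ ?_
        have e1 := congrArg (fun m => (G ◁ r) ≫ m)
          (pv_fam hV (T := Over.mk (t ≫ T.hom)) y' h' _ (isHomFamily_comp hφ (tO t)))
        have e2 := congrArg (fun m => (G ◁ r) ≫ m)
          (pv_fam hV (T := Over.mk (t ≫ T.hom)) y h _ (isHomFamily_comp hφ (tO t)))
        simp only [← whiskerLeft_comp_assoc] at e1 e2
        refine Eq.trans ?_ ((e1.trans e2.symm).trans ?_) <;> congr 2
        }
  obtain ⟨p, hp, hup⟩ := hu T.hom c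
  refine ⟨Over.homMk p.1 p.2, ext_cov _ _ fun R r i y hy => ?_, fun a ha => ?_⟩
  · obtain ⟨g, v, rfl⟩ : ∃ g v, r = lift g v :=
      ⟨r ≫ fst _ _, r ≫ snd _ _, by rw [← comp_lift, lift_fst_snd, Category.comp_id]⟩
    rw [lift_whiskerLeft_assoc, key _ g _ y hy]
    have hy' : y ≫ f i = v.left ≫ T.hom := hy.trans (Over.w v).symm
    let r' : R ⟶ (Over.mk (v.left ≫ T.hom) : Over S) := Over.homMk (𝟙 R.left) (by simpa using Over.w v)
    have h2 : loc c₀ _ (v ≫ Over.homMk p.1 p.2) y hy = r' ≫ ptT v.left y hy' :=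
      Over.OverMorphism.ext (Eq.trans (congrArg (fun z : Compat (dd hV) T.hom => (z.pt v.left y hy').1) hp)
        (Category.id_comp _).symm)
    have h4 := congrArg (fun m => lift g r' ≫ m)
      (pv_fam hV (T := Over.mk (v.left ≫ T.hom)) y hy' _ (isHomFamily_comp hφ (tO v.left)))
    simp only [lift_whiskerLeft_assoc] at h4
    rw [h2]
    refine h4.trans ?_
    congr 2
  · have := hup ⟨a.left, Over.w a⟩ (Compat.ext fun T' t i y hy => ?_)
    · exact Over.OverMorphism.ext (congrArg Subtype.val this)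
    · refine congrArg (fun m : (Over.mk (t ≫ T.hom) : Over S) ⟶ below f (V i) => m.left)
        (show loc c₀ _ (tO t ≫ a) y hy = ptT t y hy from ?_)
      refine eq_pv hV _ _ _ _ _ (c₀.pt (t ≫ a.left) y _).2 ?_
      show _ = (G ◁ tO t) ≫ φ
      rw [← ha]
      have e1 : ∀ {A B : Over S} (z : A ⟶ B), G ◁ z = lift (fst G A) (snd G A ≫ z) := fun z =>
        CartesianMonoidalCategory.hom_ext _ _ (by simp) (by simp)
      rw [← whiskerLeft_comp_assoc, e1 (loc c₀ _ _ _ _), e1 (tO t ≫ a),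
        key _ _ _ ((snd G _).left ≫ y) (by rw [Category.assoc, hy]; exact Over.w (snd G _)),
        ← loc_comp c₀ _ _ (snd G _) _ _ _ _ rfl]

end Groth.Agent.RepDesc
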